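import Groth.Agent.KummerSmLib.Alg
import Mathlib.AlgebraicGeometry.AffineSpace
import Mathlib.AlgebraicGeometry.Morphisms.Etale
import Mathlib.AlgebraicGeometry.AffineScheme

/-!
# Kummer algebras over a scheme with étale coordinates
-/

set_option autoImplicit false
universe u
open CategoryTheory CategoryTheory.Limits AlgebraicGeometry

noncomputable section

set_option backward.isDefEq.respectTransparency false
set_option backward.isDefEq.respectTransparency.types false

namespace KummerSmLib

/-- A morphism `Spec K ⟶ S` factoring through an affine open by a formally smooth ring map has formally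
smooth stalk maps. -/
theorem stalkMap_formallySmooth_SpecMap_fromSpec {S : Scheme.{u}} {V : S.Opens} (hV : IsAffineOpen V)
    {K : CommRingCat.{u}} (θ : Γ(S, V) ⟶ K) (hθ : θ.hom.FormallySmooth) (g : Spec K ⟶ S)
    (hg : g = Spec.map θ ≫ hV.fromSpec) (p : Spec K) :
    (g.stalkMap p).hom.FormallySmooth := by
  subst hg
  rw [Scheme.Hom.stalkMap_comp]
  erw [CommRingCat.hom_comp]
  refine RingHom.FormallySmooth.comp (RingHom.FormallySmooth.of_bijective ?_) ?_
  · exact ConcreteCategory.bijective_of_isIso (hV.fromSpec.stalkMap ((Spec.map θ).base p))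
  · exact (RingHom.FormallySmooth.respectsIso.arrow_mk_iso_iff (Scheme.arrowStalkMapSpecIso θ p)).mpr
      (localRingHom_formallySmooth θ.hom hθ p.asIdeal)

open MvPolynomial in
/-- Étale coordinates on an affine open over an affine open of the base. -/
theorem etale_eval₂ {X S : Scheme.{u}} (f : X ⟶ S) (W : X.Opens) {σ : Type u} (v : σ → Γ(W, ⊤))
    (hv : Etale (AffineSpace.homOfVector (W.ι ≫ f) v)) {V : S.Opens} (hV : IsAffineOpen V)
    {W' : X.Opens} (hW' : IsAffineOpen W') (hW'W : W' ≤ W) (e : W' ≤ f ⁻¹ᵁ V) :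
    (eval₂Hom (f.resLE V W' e).appTop.hom fun j => (X.homOfLE hW'W).appTop (v j)).Etale := by
  haveI : IsAffine (V : Scheme.{u}) := hV
  haveI : IsAffine (W' : Scheme.{u}) := hW'
  set v' : σ → Γ(W', ⊤) := fun j => (X.homOfLE hW'W).appTop (v j) with hv'
  let k : (W' : Scheme.{u}) ⟶ 𝔸(σ; V) := AffineSpace.homOfVector (f.resLE V W' e) v'
  have hk : k ≫ AffineSpace.map σ V.ι = X.homOfLE hW'W ≫ AffineSpace.homOfVector (W.ι ≫ f) v := by
    refine AffineSpace.hom_ext ?_ ?_
    · rw [Category.assoc, AffineSpace.map_over, AffineSpace.homOfVector_over_assoc, Category.assoc,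
        AffineSpace.homOfVector_over, Scheme.Hom.resLE_comp_ι, Scheme.homOfLE_ι_assoc]
    · intro j
      rw [Scheme.Hom.comp_appTop, Scheme.Hom.comp_appTop, CommRingCat.comp_apply, CommRingCat.comp_apply,
        AffineSpace.map_appTop_coord, AffineSpace.homOfVector_appTop_coord,
        AffineSpace.homOfVector_appTop_coord]
  haveI : IsOpenImmersion (AffineSpace.map σ V.ι) :=
    MorphismProperty.IsStableUnderBaseChange.of_isPullback (P := @IsOpenImmersion)
      (AffineSpace.isPullback_map V.ι).flip inferInstance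
  haveI : Etale (k ≫ AffineSpace.map σ V.ι) := by
    rw [hk]
    haveI := hv
    infer_instance
  haveI : Etale k := Etale.of_comp k (AffineSpace.map σ V.ι)
  haveI : Etale (k ≫ (AffineSpace.isoOfIsAffine σ V).hom) := inferInstance
  have h := HasRingHomProperty.appTop @Etale (k ≫ (AffineSpace.isoOfIsAffine σ V).hom) inferInstance
  have heq : (k ≫ (AffineSpace.isoOfIsAffine σ V).hom).appTop =
      (Scheme.ΓSpecIso _).hom ≫ CommRingCat.ofHom (eval₂Hom (f.resLE V W' e).appTop.hom v') := by
    rw [Scheme.Hom.comp_appTop, AffineSpace.isoOfIsAffine_hom_appTop, Category.assoc]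
    congr 1
    ext1
    refine MvPolynomial.ringHom_ext (fun r => ?_) (fun j => ?_)
    · simp only [CommRingCat.hom_comp, RingHom.comp_apply, CommRingCat.hom_ofHom, eval₂Hom_C]
      rw [← CommRingCat.comp_apply, ← Scheme.Hom.comp_appTop, AffineSpace.homOfVector_over]
    · simp only [CommRingCat.hom_comp, RingHom.comp_apply, CommRingCat.hom_ofHom, eval₂Hom_X']
      exact AffineSpace.homOfVector_appTop_coord _ _ j
  rw [heq] at h
  have h2 := RingHom.Etale.respectsIso.cancel_left_isIso (Scheme.ΓSpecIso _).hom
    (CommRingCat.ofHom (eval₂Hom (f.resLE V W' e).appTop.hom v'))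
  exact h2.mp h

end KummerSmLib
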