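import Groth.Agent.EtRamTameLib.GaloisDegree
import Groth.Agent.WeightLib.Pts
import Groth.Agent.CycDivLib.Pull
import Mathlib.AlgebraicGeometry.Morphisms.FormallyUnramified
import Mathlib.AlgebraicGeometry.Morphisms.QuasiFinite
import Mathlib.AlgebraicGeometry.ResidueField

/-!
# Tameness of unramified morphisms with transitive group action of invertible order
-/

set_option autoImplicit false
universe u

noncomputable section

namespace KummerSmLib

open CategoryTheory CategoryTheory.Limits AlgebraicGeometry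

/-- The residue extension of an unramified morphism with a group acting transitively on geometric fibres. -/
theorem isGalois_residueField_of_action {X V : Scheme.{u}} (h : V ⟶ X) [LocallyOfFiniteType h]
    [FormallyUnramified h] [LocallyQuasiFinite h] {G : Type*} [Group G] [Finite G] (α : G →* Aut V)
    (z : V)
    (htrans : ∀ (Ω : Type u) [Field Ω] [IsAlgClosed Ω] (s t : Spec (CommRingCat.of Ω) ⟶ V),
      s ≫ h = t ≫ h → ∃ σ : G, s ≫ (α σ).hom = t) :
    letI : Algebra (X.residueField (h.base z)) (V.residueField z) := (h.residueFieldMap z).hom.toAlgebra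
    FiniteDimensional (X.residueField (h.base z)) (V.residueField z) ∧
      IsGalois (X.residueField (h.base z)) (V.residueField z) ∧
      Module.finrank (X.residueField (h.base z)) (V.residueField z) ∣ Nat.card G := by
  let L := V.residueField z
  let K := X.residueField (h.base z)
  letI : Algebra K L := (h.residueFieldMap z).hom.toAlgebra
  haveI hfd : FiniteDimensional K L := WeightLib.finite_residueFieldMap h z
  haveI hsep : Algebra.IsSeparable K L := inferInstance
  let Ω := AlgebraicClosure L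
  let fr := V.fromSpecResidueField z
  have hfr : Spec.map (h.residueFieldMap z) ≫ X.fromSpecResidueField (h.base z) = fr ≫ h :=
    Scheme.Hom.SpecMap_residueFieldMap_fromSpecResidueField _ _
  have hinj : ∀ {F : Type u} [Field F] (a b : L ⟶ CommRingCat.of F), Spec.map a ≫ fr = Spec.map b ≫ fr → a = b := by
    intro F _ a b hab
    have h1 := (Scheme.SpecToEquivOfField F V).symm.injective
      (a₁ := (⟨z, a⟩ : Σ x, V.residueField x ⟶ CommRingCat.of F)) (a₂ := ⟨z, b⟩) hab
    exact eq_of_heq (Sigma.mk.inj h1).2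
  let Rel : G → (L ≃ₐ[K] L) → Prop := fun σ g =>
    Spec.map (CommRingCat.ofHom g.symm.toAlgHom.toRingHom) ≫ fr = fr ≫ (α σ).hom
  have hmul : ∀ σ τ g g', Rel σ g → Rel τ g' → Rel (σ * τ) (g * g') := by
    intro σ τ g g' h₁ h₂
    show Spec.map _ ≫ fr = fr ≫ (α (σ * τ)).hom
    rw [map_mul]
    show Spec.map (CommRingCat.ofHom g.symm.toAlgHom.toRingHom ≫ CommRingCat.ofHom g'.symm.toAlgHom.toRingHom) ≫ fr =
      fr ≫ (α τ).hom ≫ (α σ).hom
    rw [← reassoc_of% h₂, Spec.map_comp, Category.assoc, h₁]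
  have hone : Rel 1 1 := by
    show Spec.map (𝟙 L) ≫ fr = fr ≫ (α 1).hom
    rw [map_one, Spec.map_id, Category.id_comp]
    exact (Category.comp_id _).symm
  have hinv : ∀ σ g, Rel σ g → Rel σ⁻¹ g⁻¹ := by
    intro σ g h
    show Spec.map _ ≫ fr = fr ≫ (α σ⁻¹).hom
    rw [map_inv]
    show Spec.map _ ≫ fr = fr ≫ (α σ).inv
    have h2 : Spec.map (CommRingCat.ofHom g.toAlgHom.toRingHom) ≫ Spec.map (CommRingCat.ofHom g.symm.toAlgHom.toRingHom) = 𝟙 _ := by
      rw [← Spec.map_comp, ← Spec.map_id]
      exact congrArg Spec.map (CommRingCat.hom_ext (RingHom.ext fun x => g.apply_symm_apply x))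
    have h3 : (α σ).hom ≫ (α σ).inv = 𝟙 _ := (α σ).hom_inv_id
    calc Spec.map (CommRingCat.ofHom (g⁻¹).symm.toAlgHom.toRingHom) ≫ fr
        = Spec.map (CommRingCat.ofHom g.toAlgHom.toRingHom) ≫ (fr ≫ (α σ).hom) ≫ (α σ).inv := by
          rw [Category.assoc, h3, Category.comp_id]; rfl
      _ = fr ≫ (α σ).inv := by rw [← h, Category.assoc, reassoc_of% h2]
  let Γg : Subgroup (G × (L ≃ₐ[K] L)) :=
    { carrier := {p | Rel p.1 p.2}
      mul_mem' := fun {p q} hp hq => hmul _ _ _ _ hp hq
      one_mem' := hone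
      inv_mem' := fun {p} hp => hinv _ _ hp }
  let p₁ : Γg →* G := (MonoidHom.fst _ _).comp Γg.subtype
  let p₂ : Γg →* (L ≃ₐ[K] L) := (MonoidHom.snd _ _).comp Γg.subtype
  have hp₁ : Function.Injective p₁ := fun a b h => Subtype.ext (Prod.ext h (by
    have ha : Spec.map (CommRingCat.ofHom a.1.2.symm.toAlgHom.toRingHom) ≫ fr = fr ≫ (α a.1.1).hom := a.2
    have hb : Spec.map (CommRingCat.ofHom b.1.2.symm.toAlgHom.toRingHom) ≫ fr = fr ≫ (α b.1.1).hom := b.2
    rw [show a.1.1 = b.1.1 from h] at ha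
    have h1 := hinj (F := L) _ _ (ha.trans hb.symm)
    have h2 : a.1.2.symm = b.1.2.symm := AlgEquiv.ext fun x => RingHom.congr_fun (congrArg CommRingCat.Hom.hom h1) x
    exact AlgEquiv.symm_bijective.injective h2))
  -- every embedding is a translate of the standard one
  let ι : L →ₐ[K] Ω := IsScalarTower.toAlgHom K L Ω
  have key : ∀ τ : L →ₐ[K] Ω, ∃ p : Γg, ∀ x, ι ((p₂ p).symm x) = τ x := by
    intro τ
    let ξ : Spec (CommRingCat.of Ω) ⟶ X :=
      Spec.map (CommRingCat.ofHom (algebraMap K Ω)) ≫ X.fromSpecResidueField (h.base z)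
    have hmem : ∀ τ : L →ₐ[K] Ω, (Spec.map (CommRingCat.ofHom τ.toRingHom) ≫ fr) ≫ h = ξ := fun τ => by
      rw [Category.assoc, ← hfr, ← Spec.map_comp_assoc]
      congr 2
      exact CommRingCat.hom_ext (RingHom.ext τ.commutes)
    obtain ⟨σ, hσ⟩ := htrans Ω (Spec.map (CommRingCat.ofHom ι.toRingHom) ≫ fr) (Spec.map (CommRingCat.ofHom τ.toRingHom) ≫ fr) ((hmem ι).trans (hmem τ).symm)
    have hσ' : (Spec.map (CommRingCat.ofHom ι.toRingHom) ≫ fr) ≫ (α σ).hom = Spec.map (CommRingCat.ofHom τ.toRingHom) ≫ fr :=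
      hσ
    obtain ⟨⟨y, m⟩, hm⟩ := (Scheme.SpecToEquivOfField L V).symm.surjective (fr ≫ (α σ).hom)
    rw [Scheme.SpecToEquivOfField_symm_apply] at hm
    have hEq : (⟨y, m ≫ CommRingCat.ofHom ι.toRingHom⟩ : Σ x, V.residueField x ⟶ CommRingCat.of Ω) = ⟨z, CommRingCat.ofHom τ.toRingHom⟩ :=
      (Scheme.SpecToEquivOfField Ω V).symm.injective (by
        show Spec.map (m ≫ CommRingCat.ofHom ι.toRingHom) ≫ V.fromSpecResidueField y = _
        rw [Spec.map_comp_assoc, hm, ← Category.assoc, hσ']
        rfl)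
    obtain ⟨rfl, hmι⟩ := Sigma.mk.inj hEq
    have hmτ : ∀ x, ι (m x) = τ x := fun x => RingHom.congr_fun (congrArg CommRingCat.Hom.hom (eq_of_heq hmι)) x
    let g₀ : L →ₐ[K] L := { m.hom with commutes' := fun a => ι.toRingHom.injective ((hmτ _).trans ((τ.commutes a).trans (ι.commutes a).symm)) }
    let g : L ≃ₐ[K] L := AlgEquiv.ofBijective g₀ g₀.bijective
    have hg : Rel σ g.symm := by
      show Spec.map m ≫ fr = fr ≫ (α σ).hom
      exact hm
    exact ⟨⟨(σ, g.symm), hg⟩, fun x => hmτ x⟩
  have hp₂ : Function.Surjective p₂ := fun g => by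
    obtain ⟨p, hp⟩ := key (ι.comp g.symm.toAlgHom)
    exact ⟨p, AlgEquiv.symm_bijective.injective (AlgEquiv.ext fun x => ι.toRingHom.injective (hp x))⟩
  have hcard : Nat.card (L ≃ₐ[K] L) = Module.finrank K L := by
    let R : (L ≃ₐ[K] L) → (L →ₐ[K] Ω) := fun g => ι.comp g.symm.toAlgHom
    have hR : Function.Bijective R := ⟨fun a b h => AlgEquiv.symm_bijective.injective
      (AlgEquiv.ext fun x => ι.toRingHom.injective (DFunLike.congr_fun h x)), fun τ => by
      obtain ⟨p, hp⟩ := key τ
      exact ⟨p₂ p, AlgHom.ext hp⟩⟩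
    rw [Nat.card_congr (Equiv.ofBijective R hR), Nat.card_eq_fintype_card]
    exact AlgHom.card K L Ω
  refine ⟨hfd, IsGalois.of_card_aut_eq_finrank K L hcard, hcard ▸ ?_⟩
  exact (Subgroup.card_dvd_of_surjective p₂ hp₂).trans (Subgroup.card_dvd_of_injective p₁ hp₁)

/-- The stalk at a discrete valuation point has the residue field of a proper generization as fraction field. -/
theorem isFractionRing_residueField {Y : Scheme.{u}} {y v : Y} [IsDomain (Y.presheaf.stalk y)]
    [IsDiscreteValuationRing (Y.presheaf.stalk y)] (hv : v ⤳ y) (hne : v ≠ y) :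
    letI : Algebra (Y.presheaf.stalk y) (Y.residueField v) :=
      ((Y.residue v).hom.comp (Y.presheaf.stalkSpecializes hv).hom).toAlgebra
    IsFractionRing (Y.presheaf.stalk y) (Y.residueField v) := by
  let A := Y.presheaf.stalk y
  letI : Algebra A (Y.presheaf.stalk v) := (Y.presheaf.stalkSpecializes hv).hom.toAlgebra
  letI : Algebra A (Y.residueField v) :=
    ((Y.residue v).hom.comp (Y.presheaf.stalkSpecializes hv).hom).toAlgebra
  haveI hloc := CycDivLib.isLocalization_stalkSpecializes hv
  have hQ : (CycDivLib.primeOf hv).asIdeal = ⊥ := by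
    by_contra hQ
    have hQm : (CycDivLib.primeOf hv).asIdeal.IsMaximal := Ideal.IsPrime.isMaximal inferInstance hQ
    have he : CycDivLib.primeOf hv = IsLocalRing.closedPoint A :=
      PrimeSpectrum.ext (IsLocalRing.eq_maximalIdeal hQm)
    apply hne
    have h1 := congrArg (fun p => Y.fromSpecStalk y p) he
    exact (CycDivLib.stalkPt_primeOf hv).symm.trans (h1.trans Scheme.fromSpecStalk_closedPoint)
  haveI : IsFractionRing A (Y.presheaf.stalk v) := by
    show IsLocalization (nonZeroDivisors A) _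
    have : (CycDivLib.primeOf hv).asIdeal.primeCompl = nonZeroDivisors A := by
      ext a
      simp [Ideal.primeCompl, hQ, mem_nonZeroDivisors_iff_ne_zero]
      exact mem_nonZeroDivisors_iff_ne_zero.symm
    rw [← this]
    exact hloc
  have hf : IsField (Y.presheaf.stalk v) := (IsFractionRing.toField A).toIsField
  let e : Y.presheaf.stalk v →ₐ[A] Y.residueField v := { (Y.residue v).hom with commutes' := fun _ => rfl }
  have he : Function.Bijective e := by
    refine ⟨?_, IsLocalRing.residue_surjective⟩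
    letI := hf.toField
    exact (IsLocalRing.residue (Y.presheaf.stalk v)).injective
  exact IsLocalization.isLocalization_of_algEquiv (nonZeroDivisors A) (AlgEquiv.ofBijective e he)

end KummerSmLib
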