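import Mathlib.RingTheory.Smooth.Basic
import Mathlib.RingTheory.Etale.Basic
import Mathlib.RingTheory.RingHom.Smooth
import Mathlib.RingTheory.MvPolynomial.Ideal
import Mathlib.RingTheory.Localization.AtPrime.Basic
import Groth.Prelude.Def_SGA1t

/-!
# Formal smoothness of Kummer algebras along coordinates of a formally étale chart
-/

set_option autoImplicit false
universe u v

noncomputable section

namespace KummerSmLib

open MvPolynomial

theorem kummer_formallySmooth {R : Type u} [CommRing R] {σ : Type u} (A : Type u) [CommRing A]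
    (θ : MvPolynomial σ R →+* A) (hθ : letI := θ.toAlgebra; Algebra.FormallyEtale (MvPolynomial σ R) A)
    {ι : Type v} (e : ι → σ) (he : Function.Injective e) (a : ι → A) (ha : ∀ i, θ (X (e i)) = a i)
    (n : ι → ℕ) :
    ((algebraMap A (SGA1t.kummer A a n)).comp (θ.comp C)).FormallySmooth := by
  classical
  letI : Algebra (MvPolynomial σ R) A := θ.toAlgebra
  haveI : Algebra.FormallyEtale (MvPolynomial σ R) A := hθ
  letI : Algebra R (SGA1t.kummer A a n) :=
    ((algebraMap A (SGA1t.kummer A a n)).comp (θ.comp C)).toAlgebra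
  show Algebra.FormallySmooth R (SGA1t.kummer A a n)
  apply Algebra.FormallySmooth.of_comp_surjective
  intro B _ _ I hI h
  let q : A →+* SGA1t.kummer A a n := algebraMap A (SGA1t.kummer A a n)
  let T : ι → SGA1t.kummer A a n := fun i => Ideal.Quotient.mk _ (X i)
  have hT : ∀ i, T i ^ n i = q (a i) := by
    intro i
    have : Ideal.Quotient.mk (Ideal.span (Set.range fun i => (X i : MvPolynomial ι A) ^ n i - C (a i)))
        ((X i : MvPolynomial ι A) ^ n i - C (a i)) = 0 :=
      Ideal.Quotient.eq_zero_iff_mem.mpr (Ideal.subset_span ⟨i, rfl⟩)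
    rw [map_sub, sub_eq_zero, map_pow] at this
    exact this
  choose t ht using fun i : ι => Ideal.Quotient.mk_surjective (h (T i))
  choose s hs using fun j : σ => Ideal.Quotient.mk_surjective (h (q (θ (X j))))
  let w : σ → B := fun j => if hj : ∃ i, e i = j then t hj.choose ^ n hj.choose else s j
  have hwe : ∀ i, w (e i) = t i ^ n i := by
    intro i
    have hj : ∃ i', e i' = e i := ⟨i, rfl⟩
    simp only [w, dif_pos hj]
    rw [he hj.choose_spec]
  have hw : ∀ j, Ideal.Quotient.mk I (w j) = h (q (θ (X j))) := by
    intro j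
    by_cases hj : ∃ i, e i = j
    · obtain ⟨i, rfl⟩ := hj
      rw [hwe, map_pow, ht, ← map_pow, hT, ha]
    · simp only [w, dif_neg hj]
      exact hs j
  let ψ : MvPolynomial σ R →+* B := eval₂Hom (algebraMap R B) w
  have hψ : (Ideal.Quotient.mk I).comp ψ = (h.toRingHom.comp q).comp θ := by
    refine MvPolynomial.ringHom_ext (fun r => ?_) (fun j => ?_)
    · simp only [RingHom.comp_apply, ψ, eval₂Hom_C]
      exact (h.commutes r).symm
    · simp only [RingHom.comp_apply, ψ, eval₂Hom_X']
      exact hw j
  letI : Algebra (MvPolynomial σ R) B := ψ.toAlgebra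
  let g0 : A →ₐ[MvPolynomial σ R] B ⧸ I :=
    { toRingHom := h.toRingHom.comp q
      commutes' := fun r => (RingHom.congr_fun hψ r).symm }
  obtain ⟨g, hg⟩ := Algebra.FormallySmooth.comp_surjective (MvPolynomial σ R) A I hI g0
  have hga : ∀ i, g (a i) = t i ^ n i := by
    intro i
    rw [← ha i, ← hwe i]
    have : g (algebraMap (MvPolynomial σ R) A (X (e i))) = algebraMap (MvPolynomial σ R) B (X (e i)) :=
      g.commutes _
    exact this.trans (eval₂Hom_X' _ _ _)
  let G : SGA1t.kummer A a n →+* B := Ideal.Quotient.lift _ (eval₂Hom g.toRingHom t) (by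
    intro p hp
    have hle : Ideal.span (Set.range fun i => (X i : MvPolynomial ι A) ^ n i - C (a i)) ≤
        RingHom.ker (eval₂Hom g.toRingHom t) := by
      rw [Ideal.span_le]
      rintro _ ⟨i, rfl⟩
      rw [SetLike.mem_coe, RingHom.mem_ker, map_sub, map_pow, eval₂Hom_X', eval₂Hom_C]
      exact sub_eq_zero.mpr (hga i).symm
    exact hle hp)
  have hGq : ∀ c, G (q c) = g c := fun c => eval₂Hom_C _ _ c
  have hG : (Ideal.Quotient.mk I).comp G = h.toRingHom := by
    refine Ideal.Quotient.ringHom_ext (MvPolynomial.ringHom_ext (fun c => ?_) (fun i => ?_))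
    · show Ideal.Quotient.mk I (G (q c)) = h (q c)
      rw [hGq]
      exact AlgHom.congr_fun hg c
    · show Ideal.Quotient.mk I (eval₂Hom g.toRingHom t (X i)) = h (T i)
      rw [eval₂Hom_X']
      exact ht i
  refine ⟨{ toRingHom := G, commutes' := fun r => ?_ }, ?_⟩
  · show G (q (θ (C r))) = _
    rw [hGq]
    exact (g.commutes (C r)).trans (eval₂Hom_C _ _ r)
  · exact AlgHom.ext fun x => RingHom.congr_fun hG x

/-- Localising source and target of a formally smooth ring map. -/
theorem localRingHom_formallySmooth {R K : Type u} [CommRing R] [CommRing K] (θ : R →+* K)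
    (hθ : θ.FormallySmooth) (J : Ideal K) [J.IsPrime] :
    (Localization.localRingHom (J.comap θ) J θ rfl).FormallySmooth := by
  letI : Algebra R K := θ.toAlgebra
  haveI : Algebra.FormallySmooth R K := hθ
  let L := Localization.AtPrime J
  let Rp := Localization.AtPrime (J.comap θ)
  let F : Rp →+* L := Localization.localRingHom (J.comap θ) J θ rfl
  letI algRpL : Algebra Rp L := F.toAlgebra
  haveI : IsScalarTower R Rp L := IsScalarTower.of_algebraMap_eq fun r => by
    rw [IsScalarTower.algebraMap_apply R K L]
    exact (Localization.localRingHom_to_map (J.comap θ) J θ rfl r).symm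
  haveI : Algebra.FormallyUnramified R Rp :=
    Algebra.FormallyUnramified.of_isLocalization (J.comap θ).primeCompl
  haveI : Algebra.FormallySmooth K L := Algebra.FormallySmooth.of_isLocalization J.primeCompl
  haveI : Algebra.FormallySmooth R L := Algebra.FormallySmooth.comp R K L
  show Algebra.FormallySmooth Rp L
  exact Algebra.FormallySmooth.of_restrictScalars R Rp L

end KummerSmLib
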